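import Mathlib

set_option autoImplicit false
universe u v

open IsLocalRing

namespace Groth.Agent.TruncIsoLib

variable {A : Type u} {B : Type v} [CommRing A] [CommRing B] [IsLocalRing A] [IsLocalRing B]
  (φ : A →+* B) [IsLocalHom φ]

theorem map_pow_le (n : ℕ) : ∀ a ∈ maximalIdeal A ^ n, φ a ∈ maximalIdeal B ^ n := by
  intro a ha
  have h := Ideal.mem_map_of_mem φ ha
  rw [Ideal.map_pow] at h
  refine Ideal.pow_right_mono ?_ n h
  rw [Ideal.map_le_iff_le_comap, maximalIdeal_comap φ]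

theorem approx (h1 : Function.Surjective ((Ideal.Quotient.mk (maximalIdeal B ^ 2)).comp φ)) :
    ∀ n, ∀ b ∈ maximalIdeal B ^ n, ∃ a ∈ maximalIdeal A ^ n, b - φ a ∈ maximalIdeal B ^ (n + 1) := by
  have step1 : ∀ b ∈ maximalIdeal B, ∃ a ∈ maximalIdeal A, b - φ a ∈ maximalIdeal B ^ 2 := by
    intro b hb
    obtain ⟨a, ha⟩ := h1 (Ideal.Quotient.mk _ b)
    rw [RingHom.comp_apply, eq_comm, Ideal.Quotient.eq] at ha
    refine ⟨a, ?_, ha⟩
    rw [← maximalIdeal_comap φ, Ideal.mem_comap]
    have := Ideal.sub_mem _ hb (Ideal.pow_le_self two_ne_zero ha)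
    simpa using this
  intro n
  induction n with
  | zero =>
    intro b _
    obtain ⟨a, ha⟩ := h1 (Ideal.Quotient.mk _ b)
    rw [RingHom.comp_apply, eq_comm, Ideal.Quotient.eq] at ha
    exact ⟨a, by simp, by simpa using Ideal.pow_le_self two_ne_zero ha⟩
  | succ n ih =>
    intro b hb
    rw [pow_succ] at hb
    refine Submodule.mul_induction_on hb (fun x hx y hy => ?_) (fun x y hx hy => ?_)
    · obtain ⟨a, ha, hxa⟩ := ih x hx
      obtain ⟨c, hc, hyc⟩ := step1 y hy
      refine ⟨a * c, by rw [pow_succ]; exact Ideal.mul_mem_mul ha hc, ?_⟩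
      have e : x * y - φ (a * c) = (x - φ a) * y + φ a * (y - φ c) := by rw [map_mul]; ring
      rw [e]
      refine Ideal.add_mem _ ?_ ?_
      · rw [pow_succ]; exact Ideal.mul_mem_mul hxa hy
      · rw [show n + 1 + 1 = n + 2 by ring, pow_add]; exact Ideal.mul_mem_mul (map_pow_le φ n a ha) hyc
    · obtain ⟨a, ha, hxa⟩ := hx
      obtain ⟨c, hc, hyc⟩ := hy
      refine ⟨a + c, Ideal.add_mem _ ha hc, ?_⟩
      rw [map_add, show x + y - (φ a + φ c) = (x - φ a) + (y - φ c) by ring]
      exact Ideal.add_mem _ hxa hyc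

theorem trunc_iso [IsNoetherianRing A] (h1 : Function.Surjective ((Ideal.Quotient.mk (maximalIdeal B ^ 2)).comp φ))
    (hlen : ∀ n : ℕ, Module.length A (A ⧸ maximalIdeal A ^ (n + 1)) =
      Module.length B (B ⧸ maximalIdeal B ^ (n + 1))) (n : ℕ) :
    Function.Surjective ((Ideal.Quotient.mk (maximalIdeal B ^ (n + 1))).comp φ) ∧
      RingHom.ker ((Ideal.Quotient.mk (maximalIdeal B ^ (n + 1))).comp φ) = maximalIdeal A ^ (n + 1) := by
  have hsurj : ∀ m b, ∃ a, b - φ a ∈ maximalIdeal B ^ m := by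
    intro m
    induction m with
    | zero => exact fun b => ⟨0, by simp⟩
    | succ m ih =>
      intro b
      obtain ⟨a, ha⟩ := ih b
      obtain ⟨c, -, hc⟩ := approx φ h1 m _ ha
      exact ⟨a + c, by rw [map_add, ← sub_sub]; exact hc⟩
  set f := (Ideal.Quotient.mk (maximalIdeal B ^ (n + 1))).comp φ with hf
  have hs : Function.Surjective f := by
    intro y
    obtain ⟨b, rfl⟩ := Ideal.Quotient.mk_surjective y
    obtain ⟨a, ha⟩ := hsurj (n + 1) b
    exact ⟨a, (Ideal.Quotient.eq.mpr ha).symm⟩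
  refine ⟨hs, le_antisymm ?_ fun a ha => ?_⟩
  swap
  · exact Ideal.Quotient.eq_zero_iff_mem.mpr (map_pow_le φ _ a ha)
  have hle : maximalIdeal A ^ (n + 1) ≤ RingHom.ker f := fun a ha =>
    Ideal.Quotient.eq_zero_iff_mem.mpr (map_pow_le φ _ a ha)
  letI : Algebra A (B ⧸ maximalIdeal B ^ (n + 1)) := f.toAlgebra
  set Q := B ⧸ maximalIdeal B ^ (n + 1)
  have e1 : Module.length A Q = Module.length B Q := by
    have h2 : Module.length A Q = Module.length Q Q := Module.length_eq_of_surjective hs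
    have h3 : Module.length B Q = Module.length Q Q :=
      Module.length_eq_of_surjective Ideal.Quotient.mk_surjective
    rw [h2, h3]
  have e2 : Module.length A (A ⧸ RingHom.ker f) = Module.length A Q :=
    ((Ideal.quotientKerAlgEquivOfSurjective (f := Algebra.ofId A Q) hs).toLinearEquiv).length_eq
  haveI : IsArtinianRing (A ⧸ maximalIdeal A ^ (n + 1)) :=
    quotient_artinian_of_mem_minimalPrimes_of_isLocalRing _
      ⟨⟨(maximalIdeal.isMaximal A).isPrime, Ideal.pow_le_self n.succ_ne_zero⟩, fun q hq _ => hq.1.le_of_pow_le hq.2⟩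
  set T := A ⧸ maximalIdeal A ^ (n + 1)
  by_contra hcon
  set p : Submodule T T := (RingHom.ker f).map (Ideal.Quotient.mk (maximalIdeal A ^ (n + 1))) with hp
  have hp0 : p ≠ ⊥ := by
    intro h
    apply hcon
    intro a ha
    have : Ideal.Quotient.mk (maximalIdeal A ^ (n + 1)) a ∈ p := Ideal.mem_map_of_mem _ ha
    rw [h, Submodule.mem_bot] at this
    exact Ideal.Quotient.eq_zero_iff_mem.mp this
  have hlt := Submodule.length_quotient_lt p hp0
  rw [← Module.length_eq_of_surjective (S := A) (R := T) (M := T) Ideal.Quotient.mk_surjective,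
    ← Module.length_eq_of_surjective (S := A) (R := T) (M := T ⧸ p) Ideal.Quotient.mk_surjective] at hlt
  have e3 : Module.length A (T ⧸ p) = Module.length A (A ⧸ RingHom.ker f) :=
    (DoubleQuot.quotQuotEquivQuotOfLEₐ A hle).toLinearEquiv.length_eq
  rw [e3, e2, e1, hlen n] at hlt
  exact lt_irrefl _ hlt

end Groth.Agent.TruncIsoLib
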